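import Groth.Prelude.Def_EtBase
import Mathlib.RingTheory.Polynomial.GaussLemma
import Mathlib.FieldTheory.IsSepClosed
import Mathlib.RingTheory.Henselian
import Mathlib.Algebra.Polynomial.Eval.Irreducible

/-!
# Normal local domains with separably closed fraction field are strictly henselian
-/

set_option autoImplicit false

universe u

open Polynomial IsLocalRing

namespace Groth.Agent.EtSection

variable {R : Type u} [CommRing R] [IsDomain R] [IsLocalRing R] [IsIntegrallyClosed R]
  (K : Type u) [Field K] [Algebra R K] [IsFractionRing R K] [IsSepClosed K]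

include K in
/-- Simple roots of monic polynomials lift. -/
theorem exists_root_of_simple : ∀ (n : ℕ) (f : R[X]), f.natDegree ≤ n → f.Monic → ∀ a₀ : R,
    f.eval a₀ ∈ maximalIdeal R → IsUnit (f.derivative.eval a₀) →
      ∃ a, f.IsRoot a ∧ a - a₀ ∈ maximalIdeal R := by
  intro n
  induction n with
  | zero =>
    intro f hn hf a₀ h0 _
    rw [hf.natDegree_eq_zero.1 (Nat.le_zero.1 hn), eval_one] at h0
    exact absurd h0 ((maximalIdeal R).ne_top_iff_one.1 (maximalIdeal.isMaximal R).ne_top)
  | succ n ih =>
    intro f hn hf a₀ h0 h1
    by_cases hirr : Irreducible f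
    · have hK : Irreducible (f.map (algebraMap R K)) :=
        (hf.irreducible_iff_irreducible_map_fraction_map (K := K)).1 hirr
      have hd : derivative (f.map (algebraMap R K)) ≠ 0 := by
        intro h
        rw [derivative_map, Polynomial.map_eq_zero_iff (IsFractionRing.injective R K)] at h
        rw [h, eval_zero] at h1
        exact not_isUnit_zero h1
      have hdeg := IsSepClosed.degree_eq_one_of_irreducible K hK
        ((separable_iff_derivative_ne_zero hK).2 hd)
      rw [hf.degree_map] at hdeg
      have hX : f = X + C (f.coeff 0) := hf.eq_X_add_C (natDegree_eq_of_degree_eq_some hdeg)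
      refine ⟨-f.coeff 0, ?_, ?_⟩
      · rw [IsRoot, hX]; simp
      · rw [hX] at h0
        simp only [eval_add, eval_X, eval_C] at h0
        have := neg_mem h0
        rwa [neg_add_rev, ← sub_eq_add_neg] at this
    · have hne1 : f ≠ 1 := by
        rintro rfl
        rw [eval_one] at h0
        exact (maximalIdeal R).ne_top_iff_one.1 (maximalIdeal.isMaximal R).ne_top h0
      rw [irreducible_of_monic hf hne1] at hirr
      push_neg at hirr
      obtain ⟨a, b, ha, hb, hab, ha1, hb1⟩ := hirr
      have hab' : a.natDegree + b.natDegree = f.natDegree := by rw [← hab, ha.natDegree_mul hb]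
      have hap : 0 < a.natDegree := Nat.pos_of_ne_zero fun h => ha1 (ha.natDegree_eq_zero.1 h)
      have hbp : 0 < b.natDegree := Nat.pos_of_ne_zero fun h => hb1 (hb.natDegree_eq_zero.1 h)
      rw [← hab, eval_mul] at h0
      rw [← hab, derivative_mul, eval_add, eval_mul, eval_mul] at h1
      rcases (maximalIdeal.isMaximal R).isPrime.mem_or_mem h0 with h | h
      · have hu : IsUnit (a.derivative.eval a₀) := by
          by_contra hc
          exact (mem_maximalIdeal _).1 ((maximalIdeal R).add_mem
            (Ideal.mul_mem_right _ _ ((mem_maximalIdeal _).2 hc)) (Ideal.mul_mem_right _ _ h)) h1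
        obtain ⟨r, hr, hr'⟩ := ih a (by omega) ha a₀ h hu
        exact ⟨r, by rw [IsRoot, ← hab, eval_mul, hr.eq_zero, zero_mul], hr'⟩
      · have hu : IsUnit (b.derivative.eval a₀) := by
          by_contra hc
          exact (mem_maximalIdeal _).1 ((maximalIdeal R).add_mem
            (Ideal.mul_mem_left _ _ h) (Ideal.mul_mem_left _ _ ((mem_maximalIdeal _).2 hc))) h1
        obtain ⟨r, hr, hr'⟩ := ih b (by omega) hb a₀ h hu
        exact ⟨r, by rw [IsRoot, ← hab, eval_mul, hr.eq_zero, mul_zero], hr'⟩

include K in
/-- A normal local domain with separably closed fraction field is strictly henselian. -/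
theorem isStrictlyHenselian_of_normal : EtCoh.IsStrictlyHenselianLocalRing R := by
  refine ⟨{ is_henselian := fun f hf a₀ h0 h1 => exists_root_of_simple K _ f le_rfl hf a₀ h0 h1 }, ?_⟩
  refine IsSepClosed.of_exists_root (ResidueField R) fun p hp hirr hsep => ?_
  obtain ⟨f, hfp, hdeg, hf⟩ := lifts_and_degree_eq_and_monic
    (Polynomial.map_surjective (residue R) residue_surjective p) hp
  have hfirr : Irreducible f := Monic.irreducible_of_irreducible_map (residue R) f hf (hfp.symm ▸ hirr)
  have hK : Irreducible (f.map (algebraMap R K)) :=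
    (hf.irreducible_iff_irreducible_map_fraction_map (K := K)).1 hfirr
  have hsf : (f.map (algebraMap R K)).Separable := by
    refine (separable_iff_derivative_ne_zero hK).2 fun h => ?_
    rw [derivative_map, Polynomial.map_eq_zero_iff (IsFractionRing.injective R K)] at h
    refine (separable_iff_derivative_ne_zero hirr).1 hsep ?_
    rw [← hfp, derivative_map, h, Polynomial.map_zero]
  have hd : (f.map (algebraMap R K)).degree ≠ 0 := by
    rw [hf.degree_map, hdeg]
    exact (degree_pos_of_irreducible hirr).ne'
  obtain ⟨z, hz⟩ := IsSepClosed.exists_root (f.map (algebraMap R K)) hd hsf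
  have hzi : IsIntegral R z := ⟨f, hf, by rw [eval₂_eq_eval_map]; exact hz⟩
  obtain ⟨r, rfl⟩ := IsIntegrallyClosed.isIntegral_iff.1 hzi
  refine ⟨residue R r, ?_⟩
  have hr : f.eval r = 0 := by
    apply IsFractionRing.injective R K
    rw [map_zero, ← eval₂_at_apply, eval₂_eq_eval_map]
    exact hz
  show eval _ p = 0
  rw [← hfp, eval_map, eval₂_at_apply, hr, map_zero]

end Groth.Agent.EtSection
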