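import Groth.Agent.EtSection.SH
import Groth.Agent.EtaleSite.Clopen
import Groth.Agent.EtaleSite.SH
import Groth.Agent.ProEtW.Spectral
import Mathlib.CategoryTheory.Sites.EpiMono
import Mathlib.Topology.Separation.DisjointCover

/-!
# Étale cohomology of affine schemes with closed points and separably closed residue fields
-/

set_option autoImplicit false

universe u

open CategoryTheory CategoryTheory.Limits AlgebraicGeometry Opposite TopologicalSpace

namespace Groth.Agent.EtSection

open Groth.Agent.EtaleSite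

variable {S : Scheme.{u}}

/-- Local rings at closed generic points are henselian. -/
theorem isSH_stalk (x : S) (hx : ∀ y : S, y ⤳ x → y = x) (hsep : IsSepClosed (S.residueField x)) :
    EtCoh.IsStrictlyHenselianLocalRing (S.presheaf.stalk x) := by
  refine ⟨henselianLocalRing_of_isNilpotent _ fun r hr => ?_, hsep⟩
  refine nilpotent_iff_mem_prime.2 fun J hJ => ?_
  let q : Spec (S.presheaf.stalk x) := ⟨J, hJ⟩
  let c : Spec (S.presheaf.stalk x) := IsLocalRing.closedPoint _
  have h1 : ∀ p, S.fromSpecStalk x p = x := fun p => hx _ (by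
    have : S.fromSpecStalk x p ∈ Set.range (S.fromSpecStalk x) := ⟨p, rfl⟩
    rw [Scheme.range_fromSpecStalk] at this
    exact this)
  have h2 : q = c := (S.fromSpecStalk x).isEmbedding.injective ((h1 q).trans (h1 c).symm)
  have h3 : J = IsLocalRing.maximalIdeal (S.presheaf.stalk x) := congrArg PrimeSpectrum.asIdeal h2
  rw [h3]
  exact hr

variable [CompactSpace S] [QuasiSeparatedSpace S]

/-- Epimorphisms are surjective on global sections. -/
theorem surjective_top (hS : ∀ x : S, EtCoh.IsStrictlyHenselianLocalRing (S.presheaf.stalk x))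
    (h1 : ∀ x : S, IsClosed ({x} : Set S)) {A B : EtCoh.Ab S} (a : A ⟶ B) [Epi a] :
    Function.Surjective (a.hom.app (op (EtCoh.top S))) := by
  intro t
  have : Sheaf.IsLocallySurjective a := (Sheaf.isLocallySurjective_iff_epi' _ a).2 inferInstance
  have hcov : Presheaf.imageSieve a.hom t ∈ S.smallEtaleTopology (EtCoh.top S) :=
    Presheaf.imageSieve_mem S.smallEtaleTopology a.hom t
  have hloc : ∀ x : S, ∃ D : (EtCoh.top S).left.Opens, x ∈ D ∧
      ∃ s, a.hom.app (op (piece (EtCoh.top S) D)) s = B.obj.map (pieceHom (EtCoh.top S) D).op t := by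
    intro x
    obtain ⟨V, g, v, hg, hv⟩ := exists_of_mem_topology hcov x
    have : Etale V.hom := V.prop
    have hV : V.hom v = x := by
      rw [← hv]
      exact (congrArg (fun k => k v) ((MorphismProperty.Over.w g).symm.trans (Category.comp_id _)))
    obtain ⟨D, σ, hxD, hσ, -⟩ := exists_section_of_sh V.hom v (hS _)
    obtain ⟨s, hs⟩ := hg
    refine ⟨D, hV ▸ hxD, ?_⟩
    let σ' : piece (EtCoh.top S) D ⟶ V := MorphismProperty.Over.homMk σ (hσ.trans (Category.comp_id _).symm)
    refine ⟨A.obj.map σ'.op s, ?_⟩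
    have e : σ' ≫ g = pieceHom (EtCoh.top S) D := (EtCore.topIsTerminal S).hom_ext _ _
    refine (NatTrans.naturality_apply a.hom σ'.op s).trans ?_
    rw [hs, ← e, op_comp, Functor.map_comp]
    rfl
  choose D hxD hD using hloc
  have : T1Space S := ⟨h1⟩
  have : SpectralSpace S := { }
  have : T2Space S := ProEtW.Spectral.t2Space_of_t1Space
  have : TotallyDisconnectedSpace S := ProEtW.Spectral.totallyDisconnectedSpace_of_t1Space
  let D' : S → Opens S := D
  have hU : IsOpenCover D' := by
    refine eq_top_iff.2 fun x _ => ?_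
    exact Opens.mem_iSup.2 ⟨x, hxD x⟩
  obtain ⟨n, W, hW, hWc, hWd⟩ := hU.exists_finite_nonempty_disjoint_clopen_cover
  let W' : Fin n → (EtCoh.top S).left.Opens := fun j => ⟨(W j : Set S), (W j).isClopen.2⟩
  have hd : ∀ i j, i ≠ j → Disjoint (W' i) (W' j) := by
    intro i j h
    rw [disjoint_iff]
    refine Opens.ext ?_
    have := disjoint_iff.1 (hWd h)
    exact congrArg (fun C : Clopens S => (C : Set S)) this
  have hc : ∀ x : (EtCoh.top S).left, ∃ j, x ∈ W' j := fun x => Set.mem_iUnion.1 (hWc (Set.mem_univ x))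
  have hs : ∀ j, ∃ s, a.hom.app (op (piece (EtCoh.top S) (W' j))) s =
      B.obj.map (pieceHom (EtCoh.top S) (W' j)).op t := by
    intro j
    obtain ⟨x, hx⟩ := (hW j).2
    obtain ⟨s, hs⟩ := hD x
    have hle : W' j ≤ D x := hx
    let l : piece (EtCoh.top S) (W' j) ⟶ piece (EtCoh.top S) (D x) :=
      MorphismProperty.Over.homMk ((EtCoh.top S).left.homOfLE hle)
        (show (EtCoh.top S).left.homOfLE hle ≫ (D x).ι ≫ (EtCoh.top S).hom = (W' j).ι ≫ (EtCoh.top S).hom by
          rw [Scheme.homOfLE_ι_assoc])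
    refine ⟨A.obj.map l.op s, (NatTrans.naturality_apply a.hom l.op s).trans ?_⟩
    rw [hs]
    have e : l ≫ pieceHom (EtCoh.top S) (D x) = pieceHom (EtCoh.top S) (W' j) :=
      (EtCore.topIsTerminal S).hom_ext _ _
    rw [← e, op_comp, Functor.map_comp]
    rfl
  choose s hs using hs
  obtain ⟨r, hr⟩ := exists_glue_disjoint A W' hd hc s
  refine ⟨r, eq_of_pieces B W' hc _ _ fun j => ?_⟩
  rw [← NatTrans.naturality_apply a.hom, hr, hs]

/-- Higher cohomology vanishes. -/
theorem subsingleton_H (hS : ∀ x : S, EtCoh.IsStrictlyHenselianLocalRing (S.presheaf.stalk x))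
    (h1 : ∀ x : S, IsClosed ({x} : Set S)) (F : EtCoh.Ab S) (i : ℕ) (hi : 1 ≤ i) :
    Subsingleton (EtCoh.H S F i) := by
  obtain ⟨q, rfl⟩ := Nat.exists_eq_add_of_le hi
  rw [Nat.add_comm]
  have : (EtCore.gsec S).PreservesEpimorphisms := ⟨fun {A B} a (_ : Epi a) =>
    (AddCommGrpCat.epi_iff_surjective _).2 (surjective_top hS h1 a)⟩
  have : Projective (EtCoh.const S ℤ) := (EtCore.constAdj S).map_projective _ inferInstance
  exact subsingleton_of_forall_eq 0 Abelian.Ext.eq_zero_of_projective

end Groth.Agent.EtSection
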