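import Groth.Agent.EtSection.SH
import Groth.Agent.EtaleSite.Points
import Groth.Agent.EtStruct.UnibranchGlobal
import Mathlib.AlgebraicGeometry.Limits
import Mathlib.AlgebraicGeometry.Morphisms.Separated
import Mathlib.AlgebraicGeometry.Properties
import Mathlib.Topology.Connected.LocallyConnected

/-!
# Separated étale schemes over integral schemes with strictly henselian local rings split
-/

set_option autoImplicit false

universe u

open CategoryTheory CategoryTheory.Limits AlgebraicGeometry TopologicalSpace Topology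

namespace Groth.Agent.EtSection

variable {U X : Scheme.{u}} [IsIntegral X] (f : U ⟶ X) [Etale f]
  (hX : ∀ x : X, EtCoh.IsStrictlyHenselianLocalRing (X.presheaf.stalk x))

/-- A section over an open is an open immersion. -/
theorem isOpenImmersion_of_openSection {V : X.Opens} (s : (V : Scheme.{u}) ⟶ U) (hs : s ≫ f = V.ι) :
    IsOpenImmersion s := by
  have : Etale (s ≫ f) := by rw [hs]; infer_instance
  have : Etale s := Etale.of_comp s f
  have : Mono (s ≫ f) := by rw [hs]; infer_instance
  have : Mono s := mono_of_mono s f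
  exact IsOpenImmersion.of_flat_of_mono s

include f hX in
/-- Every point has an irreducible open neighbourhood. -/
theorem exists_irreducible_nhd (y : U) : ∃ N : Set U, IsOpen N ∧ y ∈ N ∧ IsIrreducible N := by
  obtain ⟨V, s, hxV, hs, hy⟩ := exists_section_of_sh f y (hX _)
  have := isOpenImmersion_of_openSection f s hs
  have : Nonempty V := ⟨⟨_, hxV⟩⟩
  refine ⟨Set.range s, s.isOpenEmbedding.isOpen_range, hy, ?_⟩
  rw [← Set.image_univ]
  have : IsIntegral (V : Scheme.{u}) := inferInstance
  exact (IrreducibleSpace.isIrreducible_univ _).image _ s.continuous.continuousOn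

include f hX in
/-- The connected components are open. -/
theorem isOpen_connectedComponent (y : U) : IsOpen (connectedComponent y) := by
  refine isOpen_iff_forall_mem_open.2 fun z hz => ?_
  obtain ⟨N, hN, hzN, hNi⟩ := exists_irreducible_nhd f hX z
  refine ⟨N, ?_, hN, hzN⟩
  rw [connectedComponent_eq hz]
  exact hNi.isConnected.isPreconnected.subset_connectedComponent hzN

include f hX in
/-- The connected components are irreducible. -/
theorem isIrreducible_connectedComponent (y : U) : IsIrreducible (connectedComponent y) := by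
  have : ConnectedSpace (connectedComponent y) := Subtype.connectedSpace isConnected_connectedComponent
  have hirr : IrreducibleSpace (connectedComponent y) := by
    refine Groth.Agent.EtStruct.irreducibleSpace_of_connected_of_exists_irreducible_nhd fun z => ?_
    obtain ⟨N, hN, hzN, hNi⟩ := exists_irreducible_nhd f hX z.1
    refine ⟨Subtype.val ⁻¹' N, hN.preimage continuous_subtype_val, hzN, ?_⟩
    exact hNi.preimage (isOpen_connectedComponent f hX y).isOpenEmbedding_subtypeVal ⟨z.1, hzN, z, rfl⟩
  have h := hirr.isIrreducible_univ.image Subtype.val continuous_subtype_val.continuousOn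
  rwa [Set.image_univ, Subtype.range_coe] at h

/-- The connected component as an open. -/
noncomputable def comp (y : U) : U.Opens := ⟨connectedComponent y, isOpen_connectedComponent f hX y⟩

include f hX in
/-- Connected components map injectively. -/
theorem injOn_connectedComponent [IsSeparated f] (y : U) : Set.InjOn f.base (connectedComponent y) := by
  intro a ha b hb hab
  obtain ⟨V₁, s₁, hx₁, hs₁, ⟨z₁, ha'⟩⟩ := exists_section_of_sh f a (hX _)
  obtain ⟨V₂, s₂, hx₂, hs₂, ⟨z₂, hb'⟩⟩ := exists_section_of_sh f b (hX _)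
  have h₁ := isOpenImmersion_of_openSection f s₁ hs₁
  have h₂ := isOpenImmersion_of_openSection f s₂ hs₂
  have e₁ : z₁.1 = f a := by
    rw [← ha']
    exact (congrArg (fun k => k z₁) hs₁).symm
  have e₂ : z₂.1 = f a := by
    rw [show f a = f b from hab, ← hb']
    exact (congrArg (fun k => k z₂) hs₂).symm
  let W : X.Opens := V₁ ⊓ V₂
  let w : (W : Scheme.{u}) := ⟨f a, hx₁, e₂ ▸ z₂.2⟩
  have : Nonempty W := ⟨w⟩
  let t₁ := X.homOfLE (inf_le_left : W ≤ V₁) ≫ s₁
  let t₂ := X.homOfLE (inf_le_right : W ≤ V₂) ≫ s₂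
  have : IsOpenImmersion t₁ := IsOpenImmersion.comp _ _
  have : IsOpenImmersion t₂ := IsOpenImmersion.comp _ _
  have hw₁ : t₁ w = a := by
    rw [← ha']
    refine congrArg s₁ (Subtype.ext ?_)
    exact (Scheme.homOfLE_apply _ w).trans e₁.symm
  have hw₂ : t₂ w = b := by
    rw [← hb']
    refine congrArg s₂ (Subtype.ext ?_)
    exact (Scheme.homOfLE_apply _ w).trans e₂.symm
  have ht₁ : t₁ ≫ f = W.ι := by rw [Category.assoc, hs₁, Scheme.homOfLE_ι]
  have ht₂ : t₂ ≫ f = W.ι := by rw [Category.assoc, hs₂, Scheme.homOfLE_ι]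
  have : IsIntegral (W : Scheme.{u}) := inferInstance
  have hsub : ∀ (t : (W : Scheme.{u}) ⟶ U) (c : U), c ∈ connectedComponent y → t w = c →
      Set.range t ⊆ connectedComponent y := by
    intro t c hc htw
    rw [connectedComponent_eq hc]
    exact (isPreconnected_range t.continuous).subset_connectedComponent ⟨w, htw⟩
  obtain ⟨u, -, hu₁, hu₂⟩ := (isIrreducible_connectedComponent f hX y).2 _ _
    t₁.isOpenEmbedding.isOpen_range t₂.isOpenEmbedding.isOpen_range
    ⟨a, ha, ⟨w, hw₁⟩⟩ ⟨b, hb, ⟨w, hw₂⟩⟩
  obtain ⟨v, rfl⟩ := hu₁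
  let W' : (W : Scheme.{u}).Opens := t₁ ⁻¹ᵁ t₂.opensRange
  have : Nonempty W' := ⟨⟨v, hu₂⟩⟩
  have hr : Set.range (W'.ι ≫ t₁) ⊆ Set.range t₂ := by
    rintro _ ⟨p, rfl⟩
    exact p.2
  let l := IsOpenImmersion.lift t₂ (W'.ι ≫ t₁) hr
  have hl : l ≫ t₂ = W'.ι ≫ t₁ := IsOpenImmersion.lift_fac _ _ hr
  have hlι : l = W'.ι := by
    rw [← cancel_mono W.ι, ← ht₂, reassoc_of% hl, ht₁, ht₂]
  have hdom : IsDominant W'.ι := by
    refine ⟨?_⟩
    rw [denseRange_iff_closure_range, Scheme.Opens.range_ι]
    exact (W'.2.dense ⟨v, hu₂⟩).closure_eq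
  have ht : t₁ = t₂ := ext_of_isDominant_of_isSeparated f (ht₁.trans ht₂.symm) W'.ι (by
    rw [← hl, hlι])
  rw [← hw₁, ← hw₂, ht]

include f hX in
/-- Stalk maps are isomorphisms. -/
theorem isIso_stalkMap (u : U) : IsIso (f.stalkMap u) := by
  obtain ⟨V, s, -, hs, ⟨z, rfl⟩⟩ := exists_section_of_sh f u (hX _)
  have := isOpenImmersion_of_openSection f s hs
  have h₁ : IsIso ((s ≫ f).stalkMap z) := by
    rw [Scheme.Hom.stalkMap_congr_hom _ _ hs z]
    infer_instance
  have h₂ : IsIso (s.stalkMap z) := inferInstance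
  exact IsIso.of_isIso_fac_right (hh := h₁) (Scheme.Hom.stalkMap_comp s f z).symm

omit [IsIntegral X] [Etale f] in
/-- An open restriction of stalkwise isomorphisms. -/
theorem isIso_stalkMap_opens (C : U.Opens) (h : ∀ u, IsIso (f.stalkMap u)) (x : (C : Scheme.{u})) :
    IsIso ((C.ι ≫ f).stalkMap x) := by
  rw [Scheme.Hom.stalkMap_comp]
  exact @IsIso.comp_isIso _ _ _ _ _ _ _ (h _) inferInstance

include f hX in
/-- The components map by open immersions. -/
theorem isOpenImmersion_comp [IsSeparated f] (y : U) : IsOpenImmersion ((comp f hX y).ι ≫ f) := by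
  have hinj : Function.Injective ((comp f hX y).ι ≫ f) := fun a b h =>
    Subtype.ext (injOn_connectedComponent f hX y a.2 b.2 h)
  have := isIso_stalkMap_opens f (comp f hX y) (isIso_stalkMap f hX)
  exact IsOpenImmersion.of_isIso_stalkMap _
    (.of_continuous_injective_isOpenMap (Scheme.Hom.continuous _) hinj (Scheme.Hom.isOpenMap _))

include f hX in
/-- A separated étale scheme is a disjoint union of opens of the base. -/
theorem exists_split [IsSeparated f] :
    ∃ (ι : Type u) (V : ι → X.Opens) (e : (∐ fun i => (V i : Scheme.{u})) ≅ U),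
      (∀ i, Nonempty (V i)) ∧
      ∀ i, Sigma.ι (fun i => (V i : Scheme.{u})) i ≫ e.hom ≫ f = (V i).ι := by
  let r : _root_.ConnectedComponents U → U := Function.surjInv ConnectedComponents.surjective_coe
  have hr : ∀ c, ConnectedComponents.mk (r c) = c := Function.surjInv_eq _
  let C : _root_.ConnectedComponents U → U.Opens := fun c => comp f hX (r c)
  have : ∀ c, IsOpenImmersion ((C c).ι ≫ f) := fun c => isOpenImmersion_comp f hX _
  let V : _root_.ConnectedComponents U → X.Opens := fun c => ((C c).ι ≫ f).opensRange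
  let φ : ∀ c, (V c : Scheme.{u}) ⟶ U := fun c => ((C c).ι ≫ f).isoOpensRange.inv ≫ (C c).ι
  have hφ : ∀ c, φ c ≫ f = (V c).ι := fun c => by
    rw [Category.assoc]
    exact (Iso.inv_comp_eq _).2 (((C c).ι ≫ f).isoOpensRange_hom_ι).symm
  have hrange : ∀ c, (φ c).opensRange = C c := fun c => by
    rw [Scheme.Hom.opensRange_comp_of_isIso, Scheme.Opens.opensRange_ι]
  obtain ⟨hc⟩ := nonempty_isColimit_cofanMk_of φ (by
    refine eq_top_iff.2 fun x _ => Opens.mem_iSup.2 ⟨ConnectedComponents.mk x, ?_⟩
    rw [hrange]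
    exact ConnectedComponents.coe_eq_coe'.1 (hr _).symm) (by
    intro a b hab
    show Disjoint (φ a).opensRange (φ b).opensRange
    rw [hrange, hrange, disjoint_iff, eq_bot_iff]
    rintro x ⟨ha, hb⟩
    exact hab ((hr a).symm.trans ((ConnectedComponents.coe_eq_coe.2
      ((connectedComponent_eq ha).trans (connectedComponent_eq hb).symm)).trans (hr b))))
  refine ⟨_, V, (coproductIsCoproduct _).coconePointUniqueUpToIso hc,
    fun c => ⟨(((C c).ι ≫ f).isoOpensRange.hom ⟨r c, mem_connectedComponent⟩)⟩, fun i => ?_⟩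
  rw [← Category.assoc]
  have e : Sigma.ι (fun i => (V i : Scheme.{u})) i ≫
      ((coproductIsCoproduct _).coconePointUniqueUpToIso hc).hom = φ i :=
    (coproductIsCoproduct _).comp_coconePointUniqueUpToIso_hom hc ⟨i⟩
  rw [e, hφ]

end Groth.Agent.EtSection
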