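import Groth.Agent.EtSection.AbsFlat
import Groth.Agent.Hens.Lifting
import Groth.Prelude.Def_EtBase
import Mathlib.FieldTheory.IsSepClosed
import Mathlib.Dynamics.Newton

/-!
# Local sections of étale morphisms at strictly henselian points
-/

set_option autoImplicit false

universe u

open CategoryTheory CategoryTheory.Limits AlgebraicGeometry IsLocalRing

namespace Groth.Agent.EtSection

set_option backward.isDefEq.respectTransparency.types false in
/-- An étale morphism has a section through a given point near its image, if the local ring there is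
strictly henselian. -/
theorem exists_section_of_sh {X Y : Scheme.{u}} (f : Y ⟶ X) [Etale f] (y : Y)
    (h : EtCoh.IsStrictlyHenselianLocalRing (X.presheaf.stalk (f y))) :
    ∃ (V : X.Opens) (s : (V : Scheme.{u}) ⟶ Y), f.base y ∈ V ∧ s ≫ f = V.ι ∧ y ∈ Set.range s.base := by
  obtain ⟨hH, hsep⟩ := h
  obtain ⟨_, ⟨V, hV, rfl⟩, hxV, -⟩ :=
    X.isBasis_affineOpens.exists_subset_of_mem_open (Set.mem_univ (f y)) isOpen_univ
  obtain ⟨_, ⟨W : Y.Opens, hW, rfl⟩, hyW, iWV⟩ :=
    Y.isBasis_affineOpens.exists_subset_of_mem_open (show y ∈ f ⁻¹ᵁ V from hxV) (f ⁻¹ᵁ V).2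
  have : IsSepClosed (X.residueField (f y)) := hsep
  have hres : Function.Bijective (f.residueFieldMap y).hom := by
    let : Algebra (X.residueField (f.base y)) (Y.residueField y) := (f.residueFieldMap y).hom.toAlgebra
    have : Algebra.IsSeparable (X.residueField (f.base y)) (Y.residueField y) := inferInstance
    exact ⟨RingHom.injective _, IsSepClosed.algebraMap_surjective (X.residueField (f y)) (Y.residueField y)⟩
  haveI : IsIso (f.residueFieldMap y) := (ConcreteCategory.isIso_iff_bijective _).2 hres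
  let T₀ : Γ(Y, W) ⟶ X.residueField (f y) :=
    Y.presheaf.germ W y hyW ≫ Y.residue y ≫ inv (f.residueFieldMap y)
  have hT₀ : f.appLE V W iWV ≫ T₀ = X.presheaf.germ V (f y) hxV ≫ X.residue (f y) := by
    rw [Scheme.Hom.appLE, Category.assoc, TopCat.Presheaf.germ_res_assoc,
      ← Scheme.Hom.germ_stalkMap_assoc, ← Scheme.residue_residueFieldMap_assoc, IsIso.hom_inv_id]
    simp
  let : Algebra Γ(X, V) Γ(Y, W) := (f.appLE V W iWV).hom.toAlgebra
  have : Algebra.FinitePresentation Γ(X, V) Γ(Y, W) := f.finitePresentation_appLE hV hW iWV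
  have : Algebra.Etale Γ(X, V) Γ(Y, W) :=
    RingHom.etale_algebraMap.1 (HasRingHomProperty.appLE (P := @Etale) f inferInstance ⟨V, hV⟩ ⟨W, hW⟩ iWV)
  let : Algebra Γ(X, V) (X.presheaf.stalk (f y)) := (X.presheaf.germ V (f y) hxV).hom.toAlgebra
  let p := (hV.primeIdealOf ⟨f y, hxV⟩).asIdeal
  have : IsLocalization.AtPrime (X.presheaf.stalk (f y)) p := hV.isLocalization_stalk ⟨f y, hxV⟩
  let τ : Γ(Y, W) →ₐ[Γ(X, V)] ResidueField (X.presheaf.stalk (f y)) :=
    ⟨T₀.hom, fun r => ConcreteCategory.congr_hom hT₀ r⟩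
  obtain ⟨ψ, hψ, -⟩ := Hens.existsUnique_algHom τ
  let T : Γ(Y, W) ⟶ X.presheaf.stalk (f y) := CommRingCat.ofHom ψ.toRingHom
  obtain ⟨g, hg, φ₀, hφ₀⟩ := exists_algHom_away p ψ
  let D := X.basicOpen g
  have hD : IsAffineOpen D := hV.basicOpen g
  have hDV : D ≤ V := X.basicOpen_le g
  have : IsLocalization.Away g Γ(X, D) := hV.isLocalization_basicOpen g
  have hxD : f y ∈ D := by
    have hmem : hV.primeIdealOf ⟨f y, hxV⟩ ∈ hV.fromSpec ⁻¹ᵁ D := by
      rw [hV.fromSpec_preimage_basicOpen]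
      exact hg
    have hmem' : hV.fromSpec (hV.primeIdealOf ⟨f y, hxV⟩) ∈ D := hmem
    exact (hV.fromSpec_primeIdealOf ⟨f y, hxV⟩).subst (motive := fun z => z ∈ D) hmem'
  let ρ : Γ(X, D) →ₐ[Γ(X, V)] X.presheaf.stalk (f y) :=
    ⟨(X.presheaf.germ D (f y) hxD).hom, fun r => TopCat.Presheaf.germ_res_apply _ _ _ _ r⟩
  let e : Localization.Away g ≃ₐ[Γ(X, V)] Γ(X, D) :=
    IsLocalization.algEquiv (Submonoid.powers g) _ _
  let φ : Γ(Y, W) ⟶ Γ(X, D) := CommRingCat.ofHom (e.toAlgHom.comp φ₀).toRingHom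
  have h1 : f.appLE V W iWV ≫ φ = X.presheaf.map (homOfLE hDV).op := by
    ext r
    exact (e.toAlgHom.comp φ₀).commutes r
  have h2 : φ ≫ X.presheaf.germ D (f y) hxD = T := by
    ext b
    exact DFunLike.congr_fun (hφ₀ (ρ.comp e.toAlgHom)) b
  refine ⟨D, hD.isoSpec.hom ≫ Spec.map φ ≫ hW.fromSpec, hxD, ?_, ⟨f y, hxD⟩, ?_⟩
  · rw [Category.assoc, Category.assoc, ← IsAffineOpen.SpecMap_appLE_fromSpec f hV hW iWV,
      ← Spec.map_comp_assoc, h1, hV.map_fromSpec hD, IsAffineOpen.isoSpec_hom,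
      IsAffineOpen.toSpecΓ_fromSpec]
  · have key : Spec.map φ (hD.primeIdealOf ⟨f y, hxD⟩) = hW.primeIdealOf ⟨y, hyW⟩ := by
      rw [IsAffineOpen.primeIdealOf_eq_map_closedPoint, IsAffineOpen.primeIdealOf_eq_map_closedPoint,
        ← Scheme.Hom.comp_apply, ← Spec.map_comp, h2]
      refine PrimeSpectrum.ext (Ideal.ext fun b => ?_)
      show T b ∈ maximalIdeal (X.presheaf.stalk (f y)) ↔
        Y.presheaf.germ W y hyW b ∈ maximalIdeal (Y.presheaf.stalk y)
      rw [← residue_eq_zero_iff, ← residue_eq_zero_iff]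
      show residue _ (ψ b) = 0 ↔ _
      rw [hψ b]
      show inv (f.residueFieldMap y) (Y.residue y (Y.presheaf.germ W y hyW b)) = 0 ↔ _
      rw [map_eq_zero_iff _ (ConcreteCategory.bijective_of_isIso (inv (f.residueFieldMap y))).1]
      rfl
    show hW.fromSpec (Spec.map φ (hD.primeIdealOf ⟨f y, hxD⟩)) = y
    rw [key, hW.fromSpec_primeIdealOf]

/-- A local ring with a single prime ideal is henselian. -/
theorem henselianLocalRing_of_isNilpotent (R : Type u) [CommRing R] [IsLocalRing R]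
    (h : ∀ r ∈ maximalIdeal R, IsNilpotent r) : HenselianLocalRing R := by
  refine { is_henselian := fun F _ a₀ h0 h1 => ?_ }
  obtain ⟨a, ⟨ha, ha'⟩, -⟩ := Polynomial.existsUnique_nilpotent_sub_and_aeval_eq_zero
    (P := F) (x := a₀) (by rw [Polynomial.coe_aeval_eq_eval]; exact h _ h0)
    (by rw [Polynomial.coe_aeval_eq_eval]; exact h1)
  refine ⟨a, by rw [Polynomial.IsRoot]; exact (Polynomial.coe_aeval_eq_eval a ▸ ha' :), ?_⟩
  rw [← neg_sub]
  exact neg_mem (nilradical_le_prime (maximalIdeal R) ha)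

end Groth.Agent.EtSection
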