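import Groth.Agent.EtSection.Split
import Groth.Agent.EtaleSite.Points
import Groth.Agent.IndAlg.EtaleLift
import Mathlib.AlgebraicGeometry.Morphisms.ClosedImmersion
import Mathlib.AlgebraicGeometry.Morphisms.Etale

/-!
# Affine étale schemes over closed subschemes of affine integral schemes with strictly henselian
local rings
-/

set_option autoImplicit false

universe u

open CategoryTheory CategoryTheory.Limits AlgebraicGeometry TopologicalSpace Topology

namespace Groth.Agent.EtSection

variable {V Z X : Scheme.{u}} [IsAffine X] (i : Z ⟶ X) [IsClosedImmersion i] (φ : V ⟶ Z) [Etale φ]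
  [IsAffine V]

/-- An étale affine scheme over a closed subscheme is a closed subscheme of an étale one. -/
theorem exists_etale_extension :
    ∃ (V' : Scheme.{u}) (p : V' ⟶ X) (j : V ⟶ V'), Etale p ∧ IsSeparated p ∧ IsClosedImmersion j ∧
      j ≫ p = φ ≫ i := by
  obtain ⟨hZ, hsurj⟩ := IsClosedImmersion.isAffine_surjective_of_isAffine i
  let A := Γ(X, ⊤)
  let I : Ideal A := RingHom.ker i.appTop.hom
  let e : (A ⧸ I) ≃+* Γ(Z, ⊤) := RingHom.quotientKerEquivOfSurjective hsurj
  let : Algebra (A ⧸ I) Γ(V, ⊤) := (φ.appTop.hom.comp e.toRingHom).toAlgebra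
  let : Algebra A Γ(V, ⊤) := (φ ≫ i).appTop.hom.toAlgebra
  have : IsScalarTower A (A ⧸ I) Γ(V, ⊤) := .of_algebraMap_eq fun r => rfl
  have : Algebra.Etale (A ⧸ I) Γ(V, ⊤) := by
    refine RingHom.etale_algebraMap.1 ?_
    refine RingHom.Etale.stableUnderComposition _ _ ?_ (HasRingHomProperty.appTop (P := @Etale) φ inferInstance)
    exact RingHom.Etale.of_bijective e.bijective
  obtain ⟨C, _, _, hC, ⟨q⟩⟩ := Groth.Agent.IndAlg.EtaleLift.exists_lift A I Γ(V, ⊤)
  let π : CommRingCat.of C ⟶ Γ(V, ⊤) :=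
    CommRingCat.ofHom (q.toAlgHom.toRingHom.comp (Ideal.Quotient.mk _))
  let a : A ⟶ CommRingCat.of C := CommRingCat.ofHom (algebraMap A C)
  let p : Spec (CommRingCat.of C) ⟶ X := Spec.map a ≫ X.isoSpec.inv
  have : IsClosedImmersion (Spec.map π) :=
    IsClosedImmersion.spec_of_surjective π (q.surjective.comp Ideal.Quotient.mk_surjective)
  have : Etale (Spec.map a) := (HasRingHomProperty.Spec_iff (P := @Etale)).2 (RingHom.etale_algebraMap.2 hC)
  refine ⟨Spec (CommRingCat.of C), p, V.isoSpec.hom ≫ Spec.map π, inferInstance, inferInstance,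
    inferInstance, ?_⟩
  have hπ : a ≫ π = (φ ≫ i).appTop := by
    ext r
    exact q.commutes r
  rw [Category.assoc, ← Spec.map_comp_assoc, hπ, ← Category.assoc,
    Scheme.isoSpec_hom_naturality, Category.assoc, Iso.hom_inv_id, Category.comp_id]

variable [IsIntegral X] (hX : ∀ x : X, EtCoh.IsStrictlyHenselianLocalRing (X.presheaf.stalk x))

include i hX in
/-- An affine étale scheme over a closed subscheme is a finite disjoint union of opens. -/
theorem exists_closed_split :
    ∃ (ι : Type u) (_ : Finite ι) (W : ι → Z.Opens) (e : (∐ fun k => (W k : Scheme.{u})) ≅ V),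
      ∀ k, Sigma.ι (fun k => (W k : Scheme.{u})) k ≫ e.hom ≫ φ = (W k).ι := by
  obtain ⟨V', p, j, hp, hps, hj, hjp⟩ := exists_etale_extension i φ
  let P : _root_.ConnectedComponents V' → V.Opens := fun c =>
    ⟨j ⁻¹' (ConnectedComponents.mk ⁻¹' {c}), ((by
      obtain ⟨y, rfl⟩ := ConnectedComponents.surjective_coe c
      have : ConnectedComponents.mk ⁻¹' {(y : _root_.ConnectedComponents V')} = connectedComponent y :=
        connectedComponents_preimage_singleton
      rw [this]
      exact isOpen_connectedComponent p hX y : IsOpen (ConnectedComponents.mk ⁻¹' {c}))).preimage j.continuous⟩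
  have hfin : Finite {c // ((P c : Set V)).Nonempty} := by
    obtain ⟨t, ht⟩ := (isCompact_univ : IsCompact (Set.univ : Set V)).elim_finite_subcover
      (fun c => (P c : Set V)) (fun c => (P c).2)
      (fun v _ => Set.mem_iUnion.2 ⟨ConnectedComponents.mk (j v), rfl⟩)
    refine Finite.of_injective (fun c => (⟨c.1, ?_⟩ : t)) fun a b h => Subtype.ext (congrArg (fun z : t => z.1) h)
    obtain ⟨v, hv⟩ := c.2
    obtain ⟨d, hd, hvd⟩ := Set.mem_iUnion₂.1 (ht (Set.mem_univ v))
    rwa [← (show ConnectedComponents.mk (j v) = c.1 from hv), show ConnectedComponents.mk (j v) = d from hvd]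
  let κ := {c // ((P c : Set V)).Nonempty}
  have himm : ∀ c : κ, IsOpenImmersion ((P c.1).ι ≫ φ) := by
    intro c
    obtain ⟨y, hy⟩ := ConnectedComponents.surjective_coe c.1
    have := isOpenImmersion_comp p hX y
    have hr : Set.range ((P c.1).ι ≫ j) ⊆ Set.range (comp p hX y).ι := by
      rintro _ ⟨v, rfl⟩
      rw [Scheme.Opens.range_ι]
      have h : ConnectedComponents.mk (j v.1) = ConnectedComponents.mk y := v.2.trans hy.symm
      exact ConnectedComponents.coe_eq_coe'.1 h
    let l := IsOpenImmersion.lift (comp p hX y).ι ((P c.1).ι ≫ j) hr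
    have hl : l ≫ (comp p hX y).ι = (P c.1).ι ≫ j := IsOpenImmersion.lift_fac _ _ hr
    have : Mono (l ≫ (comp p hX y).ι) := by rw [hl]; infer_instance
    have : Mono l := mono_of_mono l (comp p hX y).ι
    have hm : Mono (((P c.1).ι ≫ φ) ≫ i) := by
      rw [Category.assoc, ← hjp, ← Category.assoc, ← hl, Category.assoc]
      infer_instance
    have : Mono ((P c.1).ι ≫ φ) := mono_of_mono _ i
    exact IsOpenImmersion.of_flat_of_mono _
  let W : κ → Z.Opens := fun c => ((P c.1).ι ≫ φ).opensRange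
  let ψ : ∀ c : κ, (W c : Scheme.{u}) ⟶ V := fun c => ((P c.1).ι ≫ φ).isoOpensRange.inv ≫ (P c.1).ι
  have hψ : ∀ c, ψ c ≫ φ = (W c).ι := fun c => by
    rw [Category.assoc]
    exact (Iso.inv_comp_eq _).2 (((P c.1).ι ≫ φ).isoOpensRange_hom_ι).symm
  have hrange : ∀ c, (ψ c).opensRange = P c.1 := fun c => by
    rw [Scheme.Hom.opensRange_comp_of_isIso, Scheme.Opens.opensRange_ι]
  obtain ⟨hc⟩ := nonempty_isColimit_cofanMk_of ψ (by
    refine eq_top_iff.2 fun v _ => Opens.mem_iSup.2 ⟨⟨ConnectedComponents.mk (j v), v, rfl⟩, ?_⟩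
    rw [hrange]
    exact rfl) (by
    intro a b hab
    show Disjoint (ψ a).opensRange (ψ b).opensRange
    rw [hrange, hrange, disjoint_iff, eq_bot_iff]
    rintro v ⟨ha, hb⟩
    exact hab (Subtype.ext ((show ConnectedComponents.mk (j v) = a.1 from ha).symm.trans hb)))
  refine ⟨κ, hfin, W, (coproductIsCoproduct _).coconePointUniqueUpToIso hc, fun k => ?_⟩
  rw [← Category.assoc]
  have e : Sigma.ι (fun k => (W k : Scheme.{u})) k ≫
      ((coproductIsCoproduct _).coconePointUniqueUpToIso hc).hom = ψ k :=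
    (coproductIsCoproduct _).comp_coconePointUniqueUpToIso_hom hc ⟨k⟩
  rw [e, hψ]

omit [IsAffine V] in
include i hX in
/-- A surjective finite étale scheme over a closed subscheme has a section. -/
theorem exists_closed_section [IsFinite φ] [Surjective φ] : ∃ s : Z ⟶ V, s ≫ φ = 𝟙 Z := by
  obtain ⟨hZ, -⟩ := IsClosedImmersion.isAffine_surjective_of_isAffine i
  have : IsAffine V := isAffine_of_isAffineHom φ
  obtain ⟨κ, hκ, W, e, he⟩ := exists_closed_split i φ hX
  obtain ⟨n, ⟨N⟩⟩ := Finite.exists_equiv_fin κ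
  let ψ : ∀ k, (W k : Scheme.{u}) ⟶ V := fun k => Sigma.ι (fun k => (W k : Scheme.{u})) k ≫ e.hom
  have hψ : ∀ k, ψ k ≫ φ = (W k).ι := fun k => (Category.assoc _ _ _).trans (he k)
  have hcov : ∀ z : Z, ∃ k, z ∈ W k := by
    intro z
    obtain ⟨v, rfl⟩ := φ.surjective z
    obtain ⟨⟨k, w⟩, hw⟩ := (sigmaMk (fun k => (W k : Scheme.{u}))).surjective (e.inv v)
    rw [sigmaMk_mk] at hw
    refine ⟨k, ?_⟩
    have : (W k).ι w = φ v := by
      rw [← hψ k]
      show φ (e.hom (Sigma.ι (fun k => (W k : Scheme.{u})) k w)) = φ v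
      rw [hw]
      exact congrArg φ (congrArg (fun m => m v) e.inv_hom_id)
    rw [← this]
    exact w.2
  have hclosed : ∀ k, IsClosed (W k : Set Z) := by
    intro k
    have h := φ.isClosedMap (Set.range (ψ k)) (by
      have : IsClosed (Set.range (Sigma.ι (fun k => (W k : Scheme.{u})) k)) := by
        have h1 := (sigmaMk (fun k => (W k : Scheme.{u}))).isClosedEmbedding.isClosedMap _
          (isClosed_range_sigmaMk (σ := fun k => ((W k : Scheme.{u}) : Type u)) (i := k))
        rw [← Set.range_comp] at h1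
        convert h1 using 2
        exact (funext fun x => sigmaMk_mk _ k x).symm
      have h2 : Set.range (ψ k) = e.hom '' Set.range (Sigma.ι (fun k => (W k : Scheme.{u})) k) := by
        rw [← Set.range_comp]
        rfl
      rw [h2]
      exact (Scheme.homeoOfIso e).isClosedMap _ this)
    rw [← Set.range_comp] at h
    have h3 : (φ ∘ ψ k : _ → Z) = (W k).ι := funext fun w => congrArg (fun m => m w) (hψ k)
    rwa [h3, Scheme.Opens.range_ι] at h
  let U : κ → Z.Opens := fun k =>
    W k ⊓ ⟨(⋃ l : {l // N l < N k}, (W l.1 : Set Z))ᶜ, (isClosed_iUnion_of_finite fun l => hclosed _).isOpen_compl⟩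
  let 𝒰 : Z.OpenCover := Scheme.openCoverOfIsOpenCover Z U (by
    refine eq_top_iff.2 fun z _ => Opens.mem_iSup.2 ?_
    obtain ⟨k, hk⟩ := hcov z
    classical
    obtain ⟨k₀, hk₀, hmin⟩ := (Set.toFinite {k | z ∈ W k}).exists_minimalFor N _ ⟨k, hk⟩
    refine ⟨k₀, hk₀, ?_⟩
    simp only [Opens.coe_mk, Set.mem_compl_iff, Set.mem_iUnion, not_exists]
    rintro ⟨l, hl⟩ hzl
    exact absurd (hmin hzl hl.le) (not_le.2 hl))
  have hdisj : ∀ a b, a ≠ b → IsEmpty ↥(pullback (U a).ι (U b).ι) := by
    intro a b hab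
    refine ⟨fun x => ?_⟩
    have h : (U a).ι (pullback.fst (U a).ι (U b).ι x) = (U b).ι (pullback.snd (U a).ι (U b).ι x) :=
      congrArg (fun m : pullback (U a).ι (U b).ι ⟶ Z => m x) pullback.condition
    have h' : (pullback.fst (U a).ι (U b).ι x).1 = (pullback.snd (U a).ι (U b).ι x).1 := h
    have ha := (pullback.fst (U a).ι (U b).ι x).2
    have hb := (pullback.snd (U a).ι (U b).ι x).2
    rcases lt_or_gt_of_ne (fun e => hab (N.injective e)) with hlt | hlt
    · exact hb.2 (Set.mem_iUnion.2 ⟨⟨a, hlt⟩, h' ▸ ha.1⟩)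
    · exact ha.2 (Set.mem_iUnion.2 ⟨⟨b, hlt⟩, h' ▸ hb.1⟩)
  let g : ∀ k, (U k : Scheme.{u}) ⟶ V := fun k => Z.homOfLE inf_le_left ≫ ψ k
  refine ⟨𝒰.glueMorphisms g fun a b => ?_, ?_⟩
  · by_cases hab : a = b
    · subst hab
      have : pullback.fst (U a).ι (U a).ι = pullback.snd (U a).ι (U a).ι :=
        (cancel_mono (U a).ι).1 pullback.condition
      exact congrArg (· ≫ g a) this
    · have := hdisj a b hab
      exact (isInitialOfIsEmpty (X := pullback (U a).ι (U b).ι)).hom_ext _ _
  · refine 𝒰.hom_ext _ _ fun k => ?_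
    rw [← Category.assoc, 𝒰.ι_glueMorphisms, Category.comp_id]
    show (Z.homOfLE _ ≫ ψ k) ≫ φ = (U k).ι
    rw [Category.assoc, hψ, Scheme.homOfLE_ι]

end Groth.Agent.EtSection
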