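import Mathlib.AlgebraicGeometry.Morphisms.Etale
import Mathlib.AlgebraicGeometry.AffineScheme
import Mathlib.RingTheory.FinitePresentation
import Mathlib.FieldTheory.IsAlgClosed.Basic

/-!
# Local sections of étale morphisms at points with field stalks
-/

set_option autoImplicit false

universe u

open CategoryTheory CategoryTheory.Limits AlgebraicGeometry

namespace Groth.Agent.EtSection

/-- A map from a finitely presented algebra to a localization at a prime extends to a localization
away from an element outside of the prime. -/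
theorem exists_algHom_away {A B S : Type u} [CommRing A] [CommRing B] [Algebra A B]
    [Algebra.FinitePresentation A B] (p : Ideal A) [p.IsPrime] [CommRing S] [Algebra A S]
    [IsLocalization.AtPrime S p] (ψ : B →ₐ[A] S) :
    ∃ (g : A) (hg : g ∉ p) (φ : B →ₐ[A] Localization.Away g),
      ∀ (ρ : Localization.Away g →ₐ[A] S), ρ.comp φ = ψ := by
  classical
  obtain ⟨n, π, hπ, G, hG⟩ := Algebra.FinitePresentation.out (R := A) (A := B)
  choose a s hs using fun i : Fin n => IsLocalization.exists_mk'_eq p.primeCompl (ψ (π (MvPolynomial.X i)))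
  let s₀ : A := ∏ i, (s i : A)
  have hs₀ : s₀ ∉ p := (p.primeCompl.prod_mem (fun i _ => (s i).2) : s₀ ∈ p.primeCompl)
  have hu : ∀ i, IsUnit (algebraMap A (Localization.Away s₀) (s i)) := fun i =>
    isUnit_of_dvd_unit (map_dvd _ (Finset.dvd_prod_of_mem (fun j => (s j : A)) (Finset.mem_univ i)))
      (IsLocalization.Away.algebraMap_isUnit s₀)
  let θ : MvPolynomial (Fin n) A →ₐ[A] Localization.Away s₀ :=
    MvPolynomial.aeval fun i => algebraMap A _ (a i) * ((hu i).unit⁻¹ : (Localization.Away s₀)ˣ)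
  let ρ₀ : Localization.Away s₀ →ₐ[A] S :=
    IsLocalization.liftAlgHom (M := Submonoid.powers s₀) (f := Algebra.ofId A S) (by
      rintro ⟨_, k, rfl⟩
      exact (IsLocalization.map_units S (⟨s₀, hs₀⟩ : p.primeCompl)).pow k |> fun h => by
        simpa using h)
  have hθ : ρ₀.comp θ = ψ.comp π := MvPolynomial.algHom_ext fun i => by
    show ρ₀ (θ (MvPolynomial.X i)) = ψ (π (MvPolynomial.X i))
    refine (IsLocalization.map_units S (s i)).mul_right_cancel ?_
    rw [← hs i, IsLocalization.mk'_spec, ← ρ₀.commutes (s i : A), ← map_mul, MvPolynomial.aeval_X,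
      mul_assoc, IsUnit.val_inv_mul, mul_one, AlgHom.commutes]
  have hG0 : ∀ e : G, ∃ t : p.primeCompl, algebraMap A (Localization.Away s₀) t * θ e = 0 := by
    intro e
    obtain ⟨c, m, hc⟩ := IsLocalization.exists_mk'_eq (Submonoid.powers s₀) (θ e)
    have h0 : ρ₀ (θ e) = 0 := by
      have he : π e = 0 := (hG ▸ Ideal.subset_span e.2 : (e : MvPolynomial (Fin n) A) ∈ _)
      rw [← AlgHom.comp_apply, hθ, AlgHom.comp_apply, he, map_zero]
    have h1 : algebraMap A S c = 0 := by
      rw [← ρ₀.commutes c, ← IsLocalization.mk'_spec (Localization.Away s₀) c m, hc, map_mul, h0,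
        zero_mul]
    obtain ⟨t, ht⟩ := (IsLocalization.map_eq_zero_iff p.primeCompl S c).1 h1
    refine ⟨t, (IsLocalization.map_units (Localization.Away s₀) m).mul_left_eq_zero.1 ?_⟩
    rw [← hc, mul_assoc, IsLocalization.mk'_spec, ← map_mul, ht, map_zero]
  choose t ht using hG0
  let g : A := s₀ * ∏ e : G, (t e : A)
  have hg : g ∉ p := p.primeCompl.mul_mem hs₀ (p.primeCompl.prod_mem fun e _ => (t e).2)
  have hug : IsUnit (algebraMap A (Localization.Away g) s₀) :=
    isUnit_of_dvd_unit (map_dvd _ ⟨_, rfl⟩) (IsLocalization.Away.algebraMap_isUnit g)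
  let ι : Localization.Away s₀ →ₐ[A] Localization.Away g :=
    IsLocalization.liftAlgHom (M := Submonoid.powers s₀) (f := Algebra.ofId A _) (by
      rintro ⟨_, k, rfl⟩
      simpa using hug.pow k)
  have hker : RingHom.ker π ≤ RingHom.ker (ι.comp θ) := by
    refine le_of_eq_of_le hG.symm (Ideal.span_le.2 ?_)
    intro e he
    have hd : IsUnit (algebraMap A (Localization.Away g) (t ⟨e, he⟩)) :=
      isUnit_of_dvd_unit (map_dvd _ ((Finset.dvd_prod_of_mem (fun j => (t j : A))
        (Finset.mem_univ (⟨e, he⟩ : G))).mul_left s₀)) (IsLocalization.Away.algebraMap_isUnit g)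
    show ι (θ e) = 0
    refine hd.mul_right_eq_zero.1 ?_
    rw [← ι.commutes, ← map_mul, ht ⟨e, he⟩, map_zero]
  refine ⟨g, hg, AlgHom.liftOfSurjective π hπ (ι.comp θ) hker, fun ρ => ?_⟩
  apply AlgHom.ext
  intro b
  obtain ⟨q, rfl⟩ := hπ b
  have e : ρ.comp ι = ρ₀ := IsLocalization.algHom_ext (Submonoid.powers s₀) (Subsingleton.elim _ _)
  rw [AlgHom.comp_apply, AlgHom.liftOfSurjective_apply, ← AlgHom.comp_apply ρ]
  rw [← AlgHom.comp_assoc, e, hθ]
  rfl

/-- An étale morphism has a section through a given point near its image, if the local ring there is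
an algebraically closed field. -/
theorem exists_section {X Y : Scheme.{u}} (f : Y ⟶ X) [Etale f] (y : Y)
    (hfield : IsField (X.presheaf.stalk (f y))) (hclosed : IsAlgClosed (X.residueField (f y))) :
    ∃ (V : X.Opens) (s : (V : Scheme.{u}) ⟶ Y), f.base y ∈ V ∧ s ≫ f = V.ι ∧ y ∈ Set.range s.base := by
  obtain ⟨_, ⟨V, hV, rfl⟩, hxV, -⟩ :=
    X.isBasis_affineOpens.exists_subset_of_mem_open (Set.mem_univ (f y)) isOpen_univ
  obtain ⟨_, ⟨W : Y.Opens, hW, rfl⟩, hyW, iWV⟩ :=
    Y.isBasis_affineOpens.exists_subset_of_mem_open (show y ∈ f ⁻¹ᵁ V from hxV) (f ⁻¹ᵁ V).2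
  -- the residue field extension is trivial
  have hres : Function.Bijective (f.residueFieldMap y).hom := by
    let : Algebra (X.residueField (f.base y)) (Y.residueField y) := (f.residueFieldMap y).hom.toAlgebra
    have : Algebra.IsSeparable (X.residueField (f.base y)) (Y.residueField y) := inferInstance
    exact IsAlgClosed.algebraMap_bijective_of_isIntegral (k := X.residueField (f y)) (K := Y.residueField y)
  haveI : IsIso (f.residueFieldMap y) := (ConcreteCategory.isIso_iff_bijective _).2 hres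
  haveI : IsIso (X.residue (f y)) := (ConcreteCategory.isIso_iff_bijective _).2
    ⟨fun a b h => by
      have : IsLocalRing.maximalIdeal (X.presheaf.stalk (f y)) = ⊥ := IsLocalRing.isField_iff_maximalIdeal_eq.1 hfield
      have h' : a - b ∈ IsLocalRing.maximalIdeal (X.presheaf.stalk (f y)) :=
        (IsLocalRing.residue_eq_zero_iff _).1 (by
          show X.residue (f y) (a - b) = 0
          rw [map_sub, h, sub_self])
      rw [this] at h'
      exact sub_eq_zero.1 h', Scheme.residue_surjective X (f y)⟩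
  let T : Γ(Y, W) ⟶ X.presheaf.stalk (f y) :=
    Y.presheaf.germ W y hyW ≫ Y.residue y ≫ inv (f.residueFieldMap y) ≫ inv (X.residue (f y))
  have hT : f.appLE V W iWV ≫ T = X.presheaf.germ V (f y) hxV := by
    rw [Scheme.Hom.appLE, Category.assoc, TopCat.Presheaf.germ_res_assoc,
      ← Scheme.Hom.germ_stalkMap_assoc, ← Scheme.residue_residueFieldMap_assoc, IsIso.hom_inv_id_assoc,
      IsIso.hom_inv_id]
    exact Category.comp_id _
  let : Algebra Γ(X, V) Γ(Y, W) := (f.appLE V W iWV).hom.toAlgebra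
  have : Algebra.FinitePresentation Γ(X, V) Γ(Y, W) := f.finitePresentation_appLE hV hW iWV
  let : Algebra Γ(X, V) (X.presheaf.stalk (f y)) := (X.presheaf.germ V (f y) hxV).hom.toAlgebra
  let p := (hV.primeIdealOf ⟨f y, hxV⟩).asIdeal
  have : IsLocalization.AtPrime (X.presheaf.stalk (f y)) p := hV.isLocalization_stalk ⟨f y, hxV⟩
  let ψ : Γ(Y, W) →ₐ[Γ(X, V)] X.presheaf.stalk (f y) :=
    ⟨T.hom, fun r => ConcreteCategory.congr_hom hT r⟩
  obtain ⟨g, hg, φ₀, hφ₀⟩ := exists_algHom_away p ψ
  let D := X.basicOpen g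
  have hD : IsAffineOpen D := hV.basicOpen g
  have hDV : D ≤ V := X.basicOpen_le g
  have : IsLocalization.Away g Γ(X, D) := hV.isLocalization_basicOpen g
  have hxD : f y ∈ D := by
    have hmem : hV.primeIdealOf ⟨f y, hxV⟩ ∈ hV.fromSpec ⁻¹ᵁ D := by
      rw [hV.fromSpec_preimage_basicOpen]
      exact hg
    have hmem' : hV.fromSpec (hV.primeIdealOf ⟨f y, hxV⟩) ∈ D := hmem
    exact (hV.fromSpec_primeIdealOf ⟨f y, hxV⟩).subst (motive := fun z => z ∈ D) hmem'
  let ρ : Γ(X, D) →ₐ[Γ(X, V)] X.presheaf.stalk (f y) :=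
    ⟨(X.presheaf.germ D (f y) hxD).hom, fun r => TopCat.Presheaf.germ_res_apply _ _ _ _ r⟩
  let e : Localization.Away g ≃ₐ[Γ(X, V)] Γ(X, D) :=
    IsLocalization.algEquiv (Submonoid.powers g) _ _
  let φ : Γ(Y, W) ⟶ Γ(X, D) := CommRingCat.ofHom (e.toAlgHom.comp φ₀).toRingHom
  have h1 : f.appLE V W iWV ≫ φ = X.presheaf.map (homOfLE hDV).op := by
    ext r
    exact (e.toAlgHom.comp φ₀).commutes r
  have h2 : φ ≫ X.presheaf.germ D (f y) hxD = T := by
    ext b
    exact DFunLike.congr_fun (hφ₀ (ρ.comp e.toAlgHom)) b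
  refine ⟨D, hD.isoSpec.hom ≫ Spec.map φ ≫ hW.fromSpec, hxD, ?_, ⟨f y, hxD⟩, ?_⟩
  · rw [Category.assoc, Category.assoc, ← IsAffineOpen.SpecMap_appLE_fromSpec f hV hW iWV,
      ← Spec.map_comp_assoc, h1, hV.map_fromSpec hD, IsAffineOpen.isoSpec_hom,
      IsAffineOpen.toSpecΓ_fromSpec]
  · have key : Spec.map φ (hD.primeIdealOf ⟨f y, hxD⟩) = hW.primeIdealOf ⟨y, hyW⟩ := by
      rw [IsAffineOpen.primeIdealOf_eq_map_closedPoint, IsAffineOpen.primeIdealOf_eq_map_closedPoint,
        ← Scheme.Hom.comp_apply, ← Spec.map_comp, h2]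
      show Spec.map T (IsLocalRing.closedPoint _) = _
      rw [Spec.map_comp, Spec.map_comp, Scheme.Hom.comp_apply, Scheme.Hom.comp_apply]
      congr 1
      exact PrimeSpectrum.ext ((congrArg (Ideal.comap (Y.residue y).hom)
        (Ideal.eq_bot_of_prime _)).trans IsLocalRing.ker_residue)
    show hW.fromSpec (Spec.map φ (hD.primeIdealOf ⟨f y, hxD⟩)) = y
    rw [key, hW.fromSpec_primeIdealOf]

end Groth.Agent.EtSection
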